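import Cfsg.Agent.Lib.GoldStructure10.Structure
import Cfsg.Agent.Lib.SFourFree67.Main
import Cfsg.Agent.Lib.Balance.LBalance
import Cfsg.Agent.S1250

/-!
# The structural form of Goldschmidt's theorem (helper10): S2775

The hypotheses are Goldschmidt's theorem for simple groups and the two facts on groups of
Janko–Ree type which identify the groups of the list.
-/

set_option autoImplicit false
set_option linter.style.haveILetI false

universe u

namespace Cfsg.Agent.Lib.GoldStructure10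

open Subgroup Goldschmidt53 Cfsg.Agent.Lib.Components
open scoped IsMulCommutative

/-- An isomorphism of groups carries the quotient by the centre. -/
theorem quot_center_congr {G : Type u} [Group G] {H K : Subgroup G} (e : H = K)
    {P : Type u} [Group P] (h : Nonempty (↥K ⧸ Subgroup.center ↥K ≃* P)) :
    Nonempty (↥H ⧸ Subgroup.center ↥H ≃* P) := by
  subst e; exact h

theorem row2775 (hP : PropSimple.{u}) (hZ : Walter.PropNoField.{u}) (hO : Walter.PropOrder.{u})
    {G : Type u} [Group G] [Finite G] (S : Sylow 2 G) (A : Subgroup G)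
    (hA : IsMulCommutative ↥A) (hsc : Cfsg.IsStronglyClosed A (S : Subgroup G))
    (K : Subgroup G) (hK : K = Subgroup.normalClosure (A : Set G)) (Q : Type u) [Group Q]
    (π : ↥K →* Q) (hπ : Function.Surjective π) (hker : π.ker = Cfsg.pPrimeCore 2 ↥K) :
    Cfsg.pCore 2 Q ⊔ commutator Q = ⊤ ∧ Cfsg.pCore 2 Q ≤ Subgroup.center Q ∧
      (∃ T : Sylow 2 Q, (A.subgroupOf K).map π ≤ (T : Subgroup Q) ∧
        (A.subgroupOf K).map π = Cfsg.pCore 2 Q ⊔ Cfsg.omegaOne 2 (T : Subgroup Q)) ∧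
      ∃ (ι : Type) (_ : Fintype ι) (L : ι → Type u) (_ : ∀ i, Group (L i)),
        (∀ i, IsSimpleGroup (L i) ∧ ¬ IsMulCommutative (L i) ∧ Cfsg.IsGoldschmidtGroup (L i)) ∧
        Nonempty (↥(commutator Q) ⧸ Subgroup.center ↥(commutator Q) ≃* ((i : ι) → L i)) := by
  classical
  haveI : Fact (Nat.Prime 2) := ⟨Nat.prime_two⟩
  haveI : Finite Q := Finite.of_surjective π hπ
  have hAK : A ≤ K := hK ▸ Subgroup.subset_normalClosure
  haveI hKn : K.Normal := hK ▸ Subgroup.normalClosure_normal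
  obtain ⟨S₀, hS₀⟩ := Balance.exists_sylow_inf_normal S K
  set A₀ := A.subgroupOf K with hA₀
  have hcl₀ : Cfsg.IsStronglyClosed A₀ (S₀ : Subgroup ↥K) := by
    rw [hS₀]
    exact ⟨fun x hx => hsc.1 hx, fun x hx g hg => hsc.2 (x : G) hx (g : G) hg⟩
  -- `K` is the normal closure of `A` in itself
  have hgen : Subgroup.normalClosure (A₀ : Set ↥K) = ⊤ := by
    set M := Subgroup.normalClosure (A₀ : Set ↥K) with hM
    have hAM : ∀ a ∈ A, a ∈ M.map K.subtype := fun a ha =>
      ⟨⟨a, hAK ha⟩, Subgroup.subset_normalClosure (show (⟨a, hAK ha⟩ : ↥K) ∈ A₀ from ha), rfl⟩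
    have hconj : ∀ g : G, ∀ a ∈ A, g * a * g⁻¹ ∈ M.map K.subtype := by
      intro g a ha
      -- `g = k n` with `n` normalising `S ∩ K`, hence `A`
      let S₁ : Sylow 2 ↥K := S₀
      have hfr := Sylow.normalizer_sup_eq_top S₁
      have hg : g ∈ normalizer (((S₁ : Subgroup ↥K).map K.subtype : Subgroup G) : Set G) ⊔ K :=
        hfr ▸ mem_top g
      rw [sup_comm, ← SetLike.mem_coe, Subgroup.normal_mul] at hg
      obtain ⟨k, hk, n, hn, rfl⟩ := hg
      have hna : n * a * n⁻¹ ∈ A := by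
        refine hsc.2 a ha n ?_
        have h1 : n * a * n⁻¹ ∈ (S₁ : Subgroup ↥K).map K.subtype :=
          (mem_normalizer_iff.1 hn a).1 ⟨⟨a, hAK ha⟩, by
            show (⟨a, hAK ha⟩ : ↥K) ∈ (S₀ : Subgroup ↥K)
            rw [hS₀]; exact hsc.1 ha, rfl⟩
        obtain ⟨y, hy, hye⟩ := h1
        rw [← hye]
        have hy' : y ∈ (S : Subgroup G).subgroupOf K := hS₀ ▸ hy
        exact hy'
      obtain ⟨y, hy, hye⟩ := hAM _ hna
      refine ⟨(⟨k, hk⟩ : ↥K) * y * (⟨k, hk⟩ : ↥K)⁻¹,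
        Subgroup.Normal.conj_mem inferInstance y hy _, ?_⟩
      have e : (y : G) = n * a * n⁻¹ := hye
      simp [e, mul_assoc]
    have hle : K ≤ M.map K.subtype := by
      conv_lhs => rw [hK]
      refine (Subgroup.closure_le _).2 fun x hx => ?_
      obtain ⟨a, ha, hconjx⟩ := Group.mem_conjugatesOfSet_iff.1 hx
      obtain ⟨g, rfl⟩ := isConj_iff.1 hconjx
      exact hconj g a ha
    refine eq_top_iff.2 fun x _ => ?_
    obtain ⟨y, hy, hyx⟩ := hle x.2
    rwa [← Subtype.ext hyx]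
  -- pass to the quotient
  set B := A₀.map π with hB
  let T : Sylow 2 Q := S₀.mapSurjective hπ
  let e : ↥K ⧸ π.ker ≃* Q := QuotientGroup.quotientKerEquivOfSurjective π hπ
  have hclB : Cfsg.IsStronglyClosed B (T : Subgroup Q) := by
    have h1 := Cfsg.Agent.S1250.result S₀ A₀ hcl₀ π.ker
    have hcomp : ∀ H : Subgroup ↥K, H.map π = (H.map (QuotientGroup.mk' π.ker)).map e.toMonoidHom :=
      fun H => by rw [Subgroup.map_map]; rfl
    refine ⟨by rw [Sylow.coe_mapSurjective]; exact map_mono hcl₀.1, fun x hx g hg => ?_⟩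
    rw [hB, hcomp] at hx ⊢
    rw [Sylow.coe_mapSurjective, hcomp] at hg
    obtain ⟨x', hx', rfl⟩ := hx
    obtain ⟨g', rfl⟩ := e.surjective g
    obtain ⟨y', hy', hye⟩ := hg
    have : y' = g' * x' * g'⁻¹ := e.injective (by simpa using hye)
    subst this
    exact ⟨_, h1.2 x' hx' g' hy', by simp⟩
  have hcore : Cfsg.oddCore Q = ⊥ := by
    have h0 := Cores.pPrimeCore_quotient_pPrimeCore (G := ↥K) 2
    let e' : ↥K ⧸ Cfsg.pPrimeCore 2 ↥K ≃* Q :=
      (QuotientGroup.quotientMulEquivOfEq hker.symm).trans e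
    show Cfsg.pPrimeCore 2 Q = ⊥
    rw [← Cores.map_pPrimeCore_equiv e', h0, Subgroup.map_bot]
  have hcommB : IsMulCommutative ↥B := by
    refine ⟨⟨fun x y => Subtype.ext ?_⟩⟩
    obtain ⟨x', hx', hxe⟩ := x.2
    obtain ⟨y', hy', hye⟩ := y.2
    simp only [Subgroup.coe_mul]
    rw [← hxe, ← hye, ← map_mul, ← map_mul]
    refine congrArg π (Subtype.ext ?_)
    exact setLike_mul_comm (s := A) hx' hy'
  have hgenB : Subgroup.normalClosure (B : Set Q) = ⊤ := by
    rw [hB, Subgroup.coe_map, ← Subgroup.map_normalClosure _ π hπ, hgen,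
      Subgroup.map_top_of_surjective π hπ]
  have h : Setting T B := ⟨hcore, hcommB, hclB, hgenB, hP⟩
  refine ⟨h.sup_commutator, h.pcore_le_center, ⟨T, hclB.1, h.eq_sup⟩, ?_⟩
  obtain ⟨c⟩ := exists_enum Q
  refine ⟨Fin c.r, inferInstance, fun i => ↥(c.K i) ⧸ Subgroup.center ↥(c.K i),
    fun i => inferInstance, fun i => ?_, quot_center_congr h.commutator_eq c.layer_quot⟩
  obtain ⟨hk, -⟩ := h.comp_data (c.comp i)
  have hf := Goldschmidt53.facts _ hk
  exact ⟨hf.simple, hf.nonabelian, SFourFree67.goldschmidt_of_known hZ hO hf.nonabelian hk⟩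

end Cfsg.Agent.Lib.GoldStructure10
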