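import Cfsg.Agent.Lib.ZStar.UniqueCase
import Cfsg.Agent.Lib.U3Type59.Closed
import Cfsg.Agent.Lib.PGroups.Omega
import Cfsg.Agent.Lib.Cores.Pi
import Cfsg.Agent.S0215
import Cfsg.Agent.S1249

/-!
# An abelian strongly closed subgroup with central `Ω₁` centralises a perfect normal subgroup
(helper10)
-/

set_option autoImplicit false
set_option linter.style.haveILetI false

universe u

namespace Cfsg.Agent.Lib.GoldStructure10

open Subgroup

/-- `Y = M B` with `M` perfect, `O(Y) = 1` and the involutions of `B` central: `B` is central. -/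
theorem le_center_of_omega {Y : Type u} [Group Y] [Finite Y] (hO : Cfsg.oddCore Y = ⊥)
    (T : Sylow 2 Y) (B : Subgroup Y) (hB : ∀ a ∈ B, ∀ b ∈ B, a * b = b * a)
    (hcl : Cfsg.IsStronglyClosed B (T : Subgroup Y))
    (hinv : ∀ b ∈ B, b * b = 1 → b ∈ center Y)
    (M : Subgroup Y) (hperf : ⁅M, M⁆ = M) (hgen : M ⊔ B = ⊤) : B ≤ center Y := by
  haveI : Fact (Nat.Prime 2) := ⟨Nat.prime_two⟩
  suffices ∀ (k : ℕ), ∀ b ∈ B, orderOf b = k → b ∈ center Y from fun b hb => this _ b hb rfl
  intro k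
  induction k using Nat.strong_induction_on with
  | _ k ih =>
    intro b hb hk
    rcases eq_or_ne b 1 with rfl | hb1
    · exact one_mem _
    obtain ⟨j, hj⟩ := IsPGroup.iff_orderOf.1 T.2 ⟨b, hcl.1 hb⟩
    rw [Subgroup.orderOf_mk] at hj
    have hj0 : j ≠ 0 := fun e => hb1 (orderOf_eq_one_iff.1 (by rw [hj, e, pow_zero]))
    have hb2 : b * b ∈ center Y := by
      refine ih (orderOf (b * b)) ?_ _ (mul_mem hb hb) rfl
      rw [← hk, ← pow_two, orderOf_pow' b two_ne_zero, hj, Nat.gcd_eq_right (dvd_pow_self 2 hj0)]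
      exact Nat.div_lt_self (pow_pos two_pos j) one_lt_two
    set Z := center Y with hZdef
    have hZ2 : IsPGroup 2 ↥Z := by
      refine IsPGroup.iff_orderOf.2 fun z => ?_
      obtain ⟨i, d, hd, hdi⟩ := Nat.exists_eq_two_pow_mul_odd (orderOf_pos (z : Y)).ne'
      refine ⟨i, ?_⟩
      rw [← Subgroup.orderOf_coe, hdi]
      suffices hd1 : d = 1 by rw [hd1, mul_one]
      have hw : ((z : Y) ^ 2 ^ i) ∈ Z := pow_mem z.2 _
      have hwo : orderOf ((z : Y) ^ 2 ^ i) = d := by
        rw [orderOf_pow' _ (pow_ne_zero i two_ne_zero), hdi, Nat.gcd_comm,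
          Nat.gcd_mul_right_right, Nat.mul_div_cancel_left _ (pow_pos two_pos i)]
      haveI : (zpowers ((z : Y) ^ 2 ^ i)).Normal := ⟨fun x hx g => by
        have hxZ : x ∈ Z := (zpowers_le.2 hw) hx
        rwa [mem_center_iff.1 hxZ g, mul_inv_cancel_right]⟩
      have h1 := Cores.le_oddCore (N := zpowers ((z : Y) ^ 2 ^ i))
        (by rw [Nat.card_zpowers, hwo]; exact hd)
      rw [hO, le_bot_iff, zpowers_eq_bot] at h1
      rw [← hwo, h1, orderOf_one]
    have hZT : Z ≤ (T : Subgroup Y) := hZ2.le_sylow_of_normal T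
    set q := QuotientGroup.mk' Z with hq
    let TQ : Sylow 2 (Y ⧸ Z) := T.mapSurjective (QuotientGroup.mk'_surjective Z)
    have hpre : ∀ y : Y, q y ∈ (TQ : Subgroup _) → y ∈ (T : Subgroup Y) := by
      intro y hy
      rw [Sylow.coe_mapSurjective] at hy
      obtain ⟨t, ht, hty⟩ := hy
      have := mul_mem ht (hZT (QuotientGroup.eq.1 hty))
      simpa using this
    have hcen : ∀ g : Y, g * b * g⁻¹ ∈ (T : Subgroup Y) → g * b * g⁻¹ * b⁻¹ ∈ Z := by
      intro g hg
      have hc := hcl.2 b hb g hg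
      refine hinv _ (mul_mem hc (inv_mem hb)) ?_
      set c := g * b * g⁻¹ with hcdef
      have hcc : c * c = b * b := by
        rw [hcdef, show g * b * g⁻¹ * (g * b * g⁻¹) = g * (b * b) * g⁻¹ by group,
          mem_center_iff.1 hb2 g, mul_inv_cancel_right]
      calc c * b⁻¹ * (c * b⁻¹) = c * (b⁻¹ * c) * b⁻¹ := by group
        _ = c * (c * b⁻¹) * b⁻¹ := by rw [hB _ (inv_mem hb) _ hc]
        _ = c * c * (b * b)⁻¹ := by group
        _ = 1 := by rw [hcc, mul_inv_cancel]
    have hcomm : ∀ g : Y, b * g * b⁻¹ * g⁻¹ ∈ Z := by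
      by_cases hbZ : b ∈ Z
      · intro g
        rw [← mem_center_iff.1 hbZ g, mul_inv_cancel_right, mul_inv_cancel]
        exact one_mem _
      have hv : orderOf (q b) = 2 := orderOf_eq_prime
        (by rw [pow_two, ← map_mul]; exact (QuotientGroup.eq_one_iff _).2 hb2)
        fun e => hbZ ((QuotientGroup.eq_one_iff b).1 e)
      have hbTQ : q b ∈ (TQ : Subgroup _) := by
        rw [Sylow.coe_mapSurjective]; exact mem_map_of_mem q (hcl.1 hb)
      obtain ⟨N, hN, hodd, hNc⟩ := Cfsg.Agent.S0215.result TQ (q b) hv hbTQ fun x hx => by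
        obtain ⟨g, rfl⟩ := QuotientGroup.mk'_surjective _ x
        rw [← map_inv, ← map_mul, ← map_mul] at hx ⊢
        have h1 : q (g * b * g⁻¹ * b⁻¹) = 1 :=
          (QuotientGroup.eq_one_iff _).2 (hcen g (hpre _ hx))
        rw [map_mul, map_inv] at h1
        exact mul_inv_eq_one.1 h1
      haveI := hN
      have hNb : N = ⊥ := by
        have hOQ := U3Type59.oddCore_quotient_eq_bot Z le_rfl hZ2 hO
        exact le_bot_iff.1 (hOQ ▸ Cores.le_oddCore hodd)
      intro g
      have := hNc (q g)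
      rw [hNb, Subgroup.mem_bot, ← map_mul, ← map_inv, ← map_mul, ← map_inv, ← map_mul] at this
      exact (QuotientGroup.eq_one_iff _).1 this
    -- commutation with `b` is a homomorphism to the centre
    let f : Y →* ↥Z :=
      { toFun := fun g => ⟨_, hcomm g⟩
        map_one' := Subtype.ext (by simp)
        map_mul' := fun x y => Subtype.ext (by
          show b * (x * y) * b⁻¹ * (x * y)⁻¹ = (b * x * b⁻¹ * x⁻¹) * (b * y * b⁻¹ * y⁻¹)
          calc b * (x * y) * b⁻¹ * (x * y)⁻¹
              = (b * x * b⁻¹ * x⁻¹) * (x * (b * y * b⁻¹ * y⁻¹)) * x⁻¹ := by group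
            _ = (b * x * b⁻¹ * x⁻¹) * ((b * y * b⁻¹ * y⁻¹) * x) * x⁻¹ := by
                rw [mem_center_iff.1 (hcomm y) x]
            _ = _ := by group) }
    haveI : IsMulCommutative ↥Z := inferInstance
    have hker : (⊤ : Subgroup Y) ≤ f.ker := by
      rw [← hgen]
      refine sup_le ?_ ?_
      · rw [← hperf, commutator_le]
        intro x _ y _
        rw [MonoidHom.mem_ker, commutatorElement_def, map_mul, map_mul, map_mul, map_inv, map_inv,
          mul_comm' (f x) (f y)]
        group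
      · intro y hy
        rw [MonoidHom.mem_ker]
        refine Subtype.ext ?_
        show b * y * b⁻¹ * y⁻¹ = 1
        rw [hB b hb y hy]
        group
    refine mem_center_iff.2 fun g => ?_
    have := congrArg Subtype.val (MonoidHom.mem_ker.1 (hker (mem_top g)))
    exact (mul_inv_eq_iff_eq_mul.1 (mul_inv_eq_one.1 this)).symm

/-- The version inside a group. -/
theorem centralizes_of_omega {X : Type u} [Group X] [Finite X] (hO : Cfsg.oddCore X = ⊥)
    (T : Sylow 2 X) (B : Subgroup X) (hB : ∀ a ∈ B, ∀ b ∈ B, a * b = b * a)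
    (hcl : Cfsg.IsStronglyClosed B (T : Subgroup X)) (M : Subgroup X) [M.Normal]
    (hperf : ⁅M, M⁆ = M)
    (hinv : ∀ b ∈ B, b * b = 1 → ∀ m ∈ M, m * b = b * m) : B ≤ centralizer (M : Set X) := by
  haveI : Fact (Nat.Prime 2) := ⟨Nat.prime_two⟩
  set Y := M ⊔ B with hY
  have hMY : M ≤ Y := le_sup_left
  have hBY : B ≤ Y := le_sup_right
  haveI hMn : (M.subgroupOf Y).Normal := inferInstance
  obtain ⟨TY, hTY⟩ := ((T.2.to_le hcl.1).of_equiv (subgroupOfEquivOfLe hBY).symm).exists_le_sylow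
  obtain ⟨R, hR⟩ := (TY.2.map Y.subtype).exists_le_sylow
  have hBR : B ≤ (R : Subgroup X) := fun a ha => hR ⟨⟨a, hBY ha⟩, hTY ha, rfl⟩
  obtain ⟨-, hclR⟩ := Cfsg.Agent.S1249.result T R B hBR hcl
  have hclY : Cfsg.IsStronglyClosed (B.subgroupOf Y) (TY : Subgroup Y) :=
    ⟨hTY, fun x hx g hg => hclR (x : X) hx (g : X) (hR ⟨_, hg, rfl⟩)⟩
  have hgen : M.subgroupOf Y ⊔ B.subgroupOf Y = ⊤ := by
    rw [← subgroupOf_sup hMY hBY, hY, subgroupOf_self]
  have hOY : Cfsg.oddCore ↥Y = ⊥ := by
    have hodd : Odd (Nat.card ↥(Cfsg.oddCore ↥Y)) := ZStar.Elements.oddCore_odd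
    haveI hOn : (Cfsg.oddCore ↥Y).Normal := by unfold Cfsg.oddCore; infer_instance
    have hle : Cfsg.oddCore ↥Y ≤ M.subgroupOf Y := by
      intro x hx
      have hx' : x ∈ M.subgroupOf Y ⊔ B.subgroupOf Y := hgen ▸ mem_top x
      rw [← SetLike.mem_coe, Subgroup.normal_mul] at hx'
      obtain ⟨m, hm, b, hb, rfl⟩ := hx'
      set π := QuotientGroup.mk' (M.subgroupOf Y)
      have h1 : π (m * b) = π b := by
        rw [map_mul, show π m = 1 from (QuotientGroup.eq_one_iff m).2 hm, one_mul]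
      have hb' : (b : X) ∈ B := hb
      obtain ⟨i, hi⟩ := IsPGroup.iff_orderOf.1 (T.2.to_le hcl.1) ⟨(b : X), hb'⟩
      rw [Subgroup.orderOf_mk, Subgroup.orderOf_coe] at hi
      refine (QuotientGroup.eq_one_iff _).1 (orderOf_eq_one_iff.1 (Nat.eq_one_of_dvd_coprimes
        ((Nat.coprime_two_right.2 (hodd.of_dvd_nat (Subgroup.orderOf_dvd_natCard _ hx))).pow_right i)
        (orderOf_map_dvd π _) ?_))
      show orderOf (π (m * b)) ∣ 2 ^ i
      rw [h1, ← hi]
      exact orderOf_map_dvd π b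
    -- a normal subgroup of odd order of `M` lies in `O(M)`, which is trivial
    set D := (Cfsg.oddCore ↥Y).map Y.subtype with hD
    have hDM : D ≤ M := by
      rintro _ ⟨x, hx, rfl⟩
      exact hle hx
    haveI hDn : (D.subgroupOf M).Normal := ⟨fun x hx g => by
      obtain ⟨y, hy, hyx⟩ := hx
      refine ⟨(⟨(g : X), hMY g.2⟩ : Y) * y * (⟨(g : X), hMY g.2⟩ : Y)⁻¹, hOn.conj_mem _ hy _, ?_⟩
      have e : (y : X) = (x : X) := hyx
      simp [e]⟩
    have hOM : Cfsg.oddCore ↥M = ⊥ := by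
      haveI : (Cfsg.oddCore ↥M).Characteristic :=
        Subgroup.characteristic_iff_map_eq.2 fun e => Cores.map_pPrimeCore_equiv e
      have h1 := Cores.le_oddCore (N := (Cfsg.oddCore ↥M).map M.subtype)
        (by rw [Subgroup.card_map_of_injective M.subtype_injective]
            exact ZStar.Elements.oddCore_odd)
      rw [hO, le_bot_iff] at h1
      exact (Subgroup.map_eq_bot_iff_of_injective _ M.subtype_injective).1 h1
    have h2 := Cores.le_oddCore (N := D.subgroupOf M) (by
      rw [Nat.card_congr (subgroupOfEquivOfLe hDM).toEquiv,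
        Subgroup.card_map_of_injective Y.subtype_injective]
      exact hodd)
    rw [hOM, le_bot_iff, subgroupOf_eq_bot, inf_eq_left.2 hDM |> fun e => disjoint_iff,
      inf_eq_left.2 hDM] at h2
    exact (Subgroup.map_eq_bot_iff_of_injective _ Y.subtype_injective).1 h2
  have hperfY : ⁅M.subgroupOf Y, M.subgroupOf Y⁆ = M.subgroupOf Y := by
    refine map_injective Y.subtype_injective ?_
    rw [map_commutator, map_subgroupOf_eq_of_le hMY, hperf]
  have key := le_center_of_omega hOY TY (B.subgroupOf Y)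
    (fun a ha b hb => Subtype.ext (hB _ ha _ hb)) hclY (fun b hb hb2 => by
      have hb2' : (b : X) * (b : X) = 1 := congrArg Subtype.val hb2
      refine mem_center_iff.2 fun g => ?_
      have hle : Y ≤ centralizer ({(b : X)} : Set X) := sup_le
        (fun m hm => mem_centralizer_singleton_iff.2 (hinv _ hb hb2' m hm))
        fun c hc => mem_centralizer_singleton_iff.2 (hB c hc _ hb)
      exact Subtype.ext (mem_centralizer_singleton_iff.1 (hle g.2)))
    (M.subgroupOf Y) hperfY hgen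
  intro b hb
  refine mem_centralizer_iff.2 fun m hm => ?_
  exact congrArg Subtype.val (mem_center_iff.1 (key (show (⟨b, hBY hb⟩ : Y) ∈ B.subgroupOf Y from hb))
    ⟨m, hMY hm⟩)

end Cfsg.Agent.Lib.GoldStructure10
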