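import Cfsg.Agent.Lib.GoldStructure10.Setting

/-!
# `B = Ω₁(B) (B ∩ O₂(X))` (helper10)

The centre of a component lies in `Ω₁(B)`; the elements of `B` induce on every component inner
automorphisms by elements of `Ω₁(B)`.
-/

set_option autoImplicit false
set_option linter.style.haveILetI false
set_option linter.unusedSectionVars false

universe u

namespace Cfsg.Agent.Lib.GoldStructure10

open Subgroup Goldschmidt53 Cfsg.Agent.Lib.Components
open scoped IsMulCommutative

namespace Setting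

variable {X : Type u} [Group X] [Finite X] {T : Sylow 2 X} {B : Subgroup X} (h : Setting T B)
include h

/-- What is known about a component: the quotient and its Sylow subgroup. -/
theorem comp_data {K : Subgroup X} (hK : Cfsg.IsComponent K) :
    IsKnown (↥K ⧸ Subgroup.center ↥K) ∧ ∃ P : Sylow 2 (↥K ⧸ Subgroup.center ↥K),
      (∀ x : ↥K, (x : X) ∈ (T : Subgroup X) ↔
        QuotientGroup.mk' (Subgroup.center ↥K) x ∈ (P : Subgroup _)) ∧
      (∀ y ∈ (P : Subgroup _), ∃ x : ↥K, (x : X) ∈ (T : Subgroup X) ∧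
        QuotientGroup.mk' (Subgroup.center ↥K) x = y) ∧
      ((Cfsg.omegaOne 2 B).subgroupOf K).map (QuotientGroup.mk' (Subgroup.center ↥K)) = Om P := by
  obtain ⟨hk, P, h1, h2, h3⟩ := h.loc.known hK (h.moved_comp hK)
  refine ⟨hk, P, fun x => ⟨h1 x, fun hx => ?_⟩, h2, h3⟩
  obtain ⟨t, ht, hte⟩ := h2 _ hx
  have hz : (((t : ↥K)⁻¹ * x : ↥K) : X) ∈ (T : Subgroup X) :=
    h.loc.center_mem_sylow hK (QuotientGroup.eq.1 hte)
  have := mul_mem ht hz
  simpa using this

/-- The centre of a component lies in `Ω₁(B)`. -/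
theorem center_le {K : Subgroup X} (hK : Cfsg.IsComponent K) {z : ↥K}
    (hz : z ∈ Subgroup.center ↥K) : (z : X) ∈ Cfsg.omegaOne 2 B := by
  classical
  haveI : Fact (Nat.Prime 2) := ⟨Nat.prime_two⟩
  obtain ⟨hk, P, hTP, hPT, hOm⟩ := h.comp_data hK
  set A := Cfsg.omegaOne 2 B with hA
  set Z := Subgroup.center ↥K with hZ
  set q := QuotientGroup.mk' Z with hq
  by_contra hzA
  have hZp : IsPGroup 2 ↥Z := by
    refine IsPGroup.iff_orderOf.2 fun w => ?_
    obtain ⟨j, hj⟩ := IsPGroup.iff_orderOf.1 T.2 ⟨_, h.loc.center_mem_sylow hK w.2⟩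
    rw [Subgroup.orderOf_mk, Subgroup.orderOf_coe, Subgroup.orderOf_coe] at hj
    exact ⟨j, hj⟩
  -- a maximal subgroup of `Z` containing `A ∩ Z`
  set W : Subgroup ↥Z := (A.subgroupOf K).subgroupOf Z with hW
  have hWne : W ≠ ⊤ := fun e => hzA (mem_subgroupOf.1 (mem_subgroupOf.1
    (e ▸ mem_top (⟨z, hz⟩ : ↥Z) : (⟨z, hz⟩ : ↥Z) ∈ W)))
  obtain ⟨M, hM, hWM⟩ := (PGroups.isCoatomic_subgroup.eq_top_or_exists_le_coatom W).resolve_left hWne
  have hidx := PGroups.coatom_index hZp hM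
  set Z₁ : Subgroup ↥K := M.map Z.subtype with hZ₁
  have hZ₁Z : Z₁ ≤ Z := map_subtype_le M
  haveI hZ₁n : Z₁.Normal := ⟨fun x hx g => by
    rwa [Subgroup.mem_center_iff.1 (hZ₁Z hx) g, mul_inv_cancel_right]⟩
  have hWZ₁ : ∀ w : ↥K, (w : X) ∈ A → w ∈ Z → w ∈ Z₁ := fun w hwA hwZ =>
    ⟨⟨w, hwZ⟩, hWM (mem_subgroupOf.2 (mem_subgroupOf.2 hwA)), rfl⟩
  let π : ↥K ⧸ Z₁ →* ↥K ⧸ Z := QuotientGroup.map Z₁ Z (MonoidHom.id _) hZ₁Z
  have hπq : ∀ w : ↥K, π (QuotientGroup.mk' Z₁ w) = q w := fun w => rfl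
  have hπs : Function.Surjective π := by
    intro y
    obtain ⟨w, rfl⟩ := QuotientGroup.mk'_surjective Z y
    exact ⟨QuotientGroup.mk' Z₁ w, rfl⟩
  haveI : Group.IsPerfect ↥K := hK.2.1
  have hperf : Group.IsPerfect (↥K ⧸ Z₁) := inferInstance
  have hker : π.ker = Z.map (QuotientGroup.mk' Z₁) := by
    ext y
    obtain ⟨w, rfl⟩ := QuotientGroup.mk'_surjective Z₁ y
    rw [MonoidHom.mem_ker, hπq, QuotientGroup.mk'_apply, QuotientGroup.eq_one_iff]
    refine ⟨fun hw => mem_map_of_mem _ hw, ?_⟩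
    rintro ⟨w', hw', he⟩
    have := mul_mem hw' (hZ₁Z (QuotientGroup.eq.1 he))
    simpa using this
  have hcen : π.ker ≤ Subgroup.center (↥K ⧸ Z₁) := by
    rw [hker]
    rintro _ ⟨w, hw, rfl⟩
    refine Subgroup.mem_center_iff.2 fun y => ?_
    obtain ⟨v, rfl⟩ := QuotientGroup.mk'_surjective Z₁ y
    rw [← map_mul, ← map_mul, Subgroup.mem_center_iff.1 hw v]
  have hcard : Nat.card ↥π.ker = 2 := by
    let φ := (QuotientGroup.mk' Z₁).subgroupMap Z
    have hφ : φ.ker = M := by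
      ext w
      rw [MonoidHom.mem_ker]
      constructor
      · intro e
        obtain ⟨w', hw', he⟩ := (QuotientGroup.eq_one_iff _).1 (congrArg Subtype.val e)
        rwa [Subtype.ext he] at hw'
      · exact fun hw => Subtype.ext ((QuotientGroup.eq_one_iff _).2 (mem_map_of_mem _ hw))
    rw [hker, ← hidx, ← hφ, Subgroup.index_ker,
      MonoidHom.range_eq_top.2 ((QuotientGroup.mk' Z₁).subgroupMap_surjective Z), Subgroup.card_top]
  -- lifts
  have hlift : ∀ w : ↥K, q w ∈ Om P → ∃ a : ↥K, (a : X) ∈ A ∧ a⁻¹ * w ∈ Z := by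
    intro w hw
    rw [← hOm] at hw
    obtain ⟨a, ha, hae⟩ := hw
    exact ⟨a, ha, QuotientGroup.eq.1 hae⟩
  have hcomm : ∀ x y : ↥K ⧸ Z₁, π x ∈ Om P → π y ∈ (P : Subgroup _) → x * y = y * x := by
    intro x y hx hy
    obtain ⟨v, rfl⟩ := QuotientGroup.mk'_surjective Z₁ x
    obtain ⟨w, rfl⟩ := QuotientGroup.mk'_surjective Z₁ y
    rw [hπq] at hx hy
    obtain ⟨a, ha, haz⟩ := hlift v hx
    have hwT := (hTP w).2 hy
    set c := w * a * w⁻¹ * a⁻¹ with hc
    have hcA : (c : X) ∈ A := by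
      have := h.loc.comm_mem hwT ha
      simpa [hc] using this
    have hcZ : c ∈ Z := by
      refine (QuotientGroup.eq_one_iff _).1 ?_
      show q c = 1
      have hqa : q a = q v := QuotientGroup.eq.2 haz
      have hmul := (Goldschmidt53.facts _ hk).omega_central P (q v) hx (q w) hy
      rw [hc, map_mul, map_mul, map_mul, map_inv, map_inv, hqa, ← hmul]
      group
    have h1 : QuotientGroup.mk' Z₁ c = 1 := (QuotientGroup.eq_one_iff _).2 (hWZ₁ c hcA hcZ)
    have e : v = a * (a⁻¹ * v) := by group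
    have hcz : ∀ g : ↥K, g * (a⁻¹ * v) = (a⁻¹ * v) * g := Subgroup.mem_center_iff.1 haz
    have e2 : w * v = c * (v * w) := by
      rw [e, hc]
      calc w * (a * (a⁻¹ * v)) = w * a * (a⁻¹ * v) := by group
        _ = w * a * w⁻¹ * a⁻¹ * (a * (w * (a⁻¹ * v))) := by group
        _ = w * a * w⁻¹ * a⁻¹ * (a * ((a⁻¹ * v) * w)) := by rw [hcz w]
        _ = _ := by group
    rw [← map_mul, ← map_mul, e2, map_mul _ c, h1, one_mul]
  obtain ⟨x, hx1, hx2, hxx⟩ :=
    (Goldschmidt53.facts _ hk).cover (↥K ⧸ Z₁) π hπs hperf hcen hcard P hcomm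
  obtain ⟨v, rfl⟩ := QuotientGroup.mk'_surjective Z₁ x
  rw [hπq] at hx1 hx2
  -- conjugate the involution into `Ω₁(P)`
  obtain ⟨U, hU⟩ := ((IsPGroup.of_card (n := 1) (by
    rw [Nat.card_zpowers, orderOf_eq_prime (by rw [pow_two]; exact hx2) hx1, pow_one])) :
    IsPGroup 2 ↥(zpowers (q v))).exists_le_sylow
  obtain ⟨g, hg⟩ := MulAction.exists_smul_eq (↥K ⧸ Z) U P
  obtain ⟨k, rfl⟩ := QuotientGroup.mk'_surjective Z g
  have hvP : q k * q v * (q k)⁻¹ ∈ (P : Subgroup _) :=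
    ZStar.Elements.smul_mem hg (hU (mem_zpowers _))
  have hvO : q (k * v * k⁻¹) ∈ Om P := by
    rw [map_mul, map_mul, map_inv]
    exact Subgroup.subset_closure ⟨hvP, by
      rw [pow_two, show q k * q v * (q k)⁻¹ * (q k * q v * (q k)⁻¹) = q k * (q v * q v) * (q k)⁻¹ by
        group, hx2, mul_one, mul_inv_cancel]⟩
  obtain ⟨a, ha, haz⟩ := hlift _ hvO
  refine hxx ?_
  rw [← map_mul, QuotientGroup.mk'_apply, QuotientGroup.eq_one_iff]
  set z' := a⁻¹ * (k * v * k⁻¹) with hz'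
  have hz2 : z' * z' ∈ Z₁ := by
    refine ⟨(⟨z', haz⟩ : ↥Z) * ⟨z', haz⟩, ?_, rfl⟩
    haveI := PGroups.coatom_normal hZp hM
    exact Subgroup.mul_self_mem_of_index_two hidx _
  have haa : a * a = 1 := Subtype.ext (h.mem_om.1 ha).2
  have e3 : v * v = z' * z' := by
    have hcz : ∀ g : ↥K, g * z' = z' * g := Subgroup.mem_center_iff.1 haz
    have h1 : k * (v * v) * k⁻¹ = z' * z' := by
      calc k * (v * v) * k⁻¹ = (a * z') * (a * z') := by rw [hz']; group
        _ = a * (z' * a) * z' := by group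
        _ = a * (a * z') * z' := by rw [hcz a]
        _ = a * a * (z' * z') := by group
        _ = z' * z' := by rw [haa, one_mul]
    calc v * v = k⁻¹ * (k * (v * v) * k⁻¹) * k := by group
      _ = k⁻¹ * (z' * z') * k := by rw [h1]
      _ = _ := by
        have h2 : k⁻¹ * (z' * z') = (z' * z') * k⁻¹ := by
          calc k⁻¹ * (z' * z') = (k⁻¹ * z') * z' := by group
            _ = (z' * k⁻¹) * z' := by rw [hcz k⁻¹]
            _ = z' * (k⁻¹ * z') := by group
            _ = z' * (z' * k⁻¹) := by rw [hcz k⁻¹]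
            _ = _ := by group
        rw [h2]; group
  rw [e3]; exact hz2

/-- Elements over `Ω₁` lie in `Ω₁(B)`. -/
theorem mem_om_of_img {K : Subgroup X} (hK : Cfsg.IsComponent K)
    {P : Sylow 2 (↥K ⧸ Subgroup.center ↥K)}
    (hOm : ((Cfsg.omegaOne 2 B).subgroupOf K).map (QuotientGroup.mk' (Subgroup.center ↥K)) = Om P)
    {w : ↥K} (hw : QuotientGroup.mk' (Subgroup.center ↥K) w ∈ Om P) :
    (w : X) ∈ Cfsg.omegaOne 2 B := by
  rw [← hOm] at hw
  obtain ⟨a, ha, hae⟩ := hw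
  have := mul_mem (show (a : X) ∈ Cfsg.omegaOne 2 B from ha)
    (h.center_le hK (QuotientGroup.eq.1 hae))
  simpa using this

/-- `B` normalises every component. -/
theorem le_normalizer {K : Subgroup X} (hK : Cfsg.IsComponent K) : B ≤ normalizer (K : Set X) := by
  classical
  intro b hb
  set K' := K.map (MulAut.conj b).toMonoidHom with hK'
  have hK'c : Cfsg.IsComponent K' := Component.conj hK b
  by_cases he : K' = K
  · refine Subgroup.mem_normalizer_fintype ?_
    intro x hx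
    rw [SetLike.mem_coe] at hx ⊢
    rw [← he]
    exact mem_map_of_mem _ hx
  exfalso
  refine h.moved_comp hK fun x hx => Subgroup.mem_center_iff.2 fun y => Subtype.ext ?_
  have hxK' : (x : X) ∈ K' := ⟨x, x.2, by
    show b * (x : X) * b⁻¹ = x
    rw [h.bcomm hb (h.om_le hx), mul_inv_cancel_right]⟩
  exact (mem_centralizer_iff.1 (Component.le_centralizer_of_ne hK'c hK he hxK') y y.2)

/-- An element of `B` acts on a component as an element of `Ω₁(B)` inside it. -/
theorem inner {K : Subgroup X} (hK : Cfsg.IsComponent K) {b : X} (hb : b ∈ B) :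
    ∃ w : ↥K, (w : X) ∈ Cfsg.omegaOne 2 B ∧ (w : X)⁻¹ * b ∈ centralizer (K : Set X) := by
  classical
  haveI : Fact (Nat.Prime 2) := ⟨Nat.prime_two⟩
  obtain ⟨hk, P, hTP, hPT, hOm⟩ := h.comp_data hK
  have hf := Goldschmidt53.facts _ hk
  haveI := hf.simple
  set Z := Subgroup.center ↥K with hZ
  set q := QuotientGroup.mk' Z with hq
  have hbT := h.closed.1 hb
  let β : MulAut ↥K := K.normalizerMonoidHom ⟨b, h.le_normalizer hK hb⟩
  have hβ : ∀ x : ↥K, ((β x : ↥K) : X) = b * x * b⁻¹ := fun x => rfl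
  have hβZ : Z.map β.toMonoidHom = Z :=
    Subgroup.characteristic_iff_map_eq.1 inferInstance β
  let α : MulAut (↥K ⧸ Z) := QuotientGroup.congr Z Z β hβZ
  have hα : ∀ x : ↥K, α (q x) = q (β x) := fun x => rfl
  have hnorm : ∀ y : ↥K ⧸ Z, y ∈ normalizer ((P : Subgroup (↥K ⧸ Z)) : Set (↥K ⧸ Z)) →
      ∀ w : ↥K, q w = y → ∀ x : ↥K, (x : X) ∈ (T : Subgroup X) →
        ((w * x * w⁻¹ : ↥K) : X) ∈ (T : Subgroup X) := by
    rintro y hy w rfl x hx
    rw [hTP, map_mul, map_mul, map_inv]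
    exact (mem_normalizer_iff.1 hy _).1 ((hTP x).1 hx)
  have himg : ∀ x : ↥K, (x : X) ∈ B → q x ∈ Om P := by
    intro x hx
    have hxP : q x ∈ (P : Subgroup _) := (hTP x).1 (h.closed.1 hx)
    refine Subgroup.subset_closure ⟨hxP, ?_⟩
    rw [pow_two]
    refine moved hk P _ hxP fun g hg => ?_
    obtain ⟨w, rfl⟩ := QuotientGroup.mk'_surjective Z g
    have hwx := h.closed.2 (x : X) hx (w : X) (hnorm _ hg w rfl x (h.closed.1 hx))
    rw [← map_inv, ← map_mul, ← map_mul, ← map_mul, ← map_mul]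
    refine congrArg q (Subtype.ext ?_)
    simp only [Subgroup.coe_mul, InvMemClass.coe_inv]
    exact h.bcomm hx hwx
  have hαpow : ∀ (n : ℕ) (x : ↥K), (α ^ n) (q x) = q ((β ^ n) x) := by
    intro n
    induction n with
    | zero => intro x; rfl
    | succ n ih =>
      intro x
      rw [pow_succ', pow_succ', MulAut.mul_apply, MulAut.mul_apply, ih, hα]
  obtain ⟨j, hj⟩ := IsPGroup.iff_orderOf.1 T.2 ⟨b, hbT⟩
  rw [Subgroup.orderOf_mk] at hj
  have hα2 : α ^ (2 ^ j) = 1 := by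
    refine MulEquiv.ext fun y => ?_
    obtain ⟨x, rfl⟩ := QuotientGroup.mk'_surjective Z y
    have hβ1 : β ^ (2 ^ j) = 1 := by
      show (K.normalizerMonoidHom ⟨b, _⟩) ^ (2 ^ j) = 1
      rw [← map_pow, show (⟨b, h.le_normalizer hK hb⟩ : ↥(normalizer (K : Set X))) ^ (2 ^ j) = 1 from
        Subtype.ext (by rw [← hj]; exact pow_orderOf_eq_one b), map_one]
    rw [hαpow, hβ1]
    rfl
  obtain ⟨g, hgP, hg⟩ := hf.split P α (by
      obtain ⟨i, -, hi⟩ := (Nat.dvd_prime_pow Nat.prime_two).1 (orderOf_dvd_of_pow_eq_one hα2)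
      exact ⟨i, hi⟩)
    (fun x hx => by
      rw [← hOm] at hx
      obtain ⟨y, hy, rfl⟩ := hx
      refine congrArg q (Subtype.ext ?_)
      show b * (y : X) * b⁻¹ = y
      rw [h.bcomm hb (h.om_le (show (y : X) ∈ Cfsg.omegaOne 2 B from hy)), mul_inv_cancel_right])
    (fun x hx => by
      obtain ⟨y, hy, rfl⟩ := hPT x hx
      rw [hα, ← map_inv, ← map_mul]
      refine himg _ ?_
      rw [Subgroup.coe_mul, InvMemClass.coe_inv, hβ]
      have h1 := mul_mem (h.conj_mem (inv_mem hy) hb) (inv_mem hb)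
      rw [inv_inv] at h1
      simpa [mul_assoc] using h1)
  obtain ⟨w, hwT, rfl⟩ := hPT g hgP
  set c := (w : X)⁻¹ * b with hc
  have hcT : c ∈ (T : Subgroup X) := mul_mem (inv_mem hwT) hbT
  have hcK : c ∈ centralizer (K : Set X) := by
    refine LocalSetting.mem_centralizer_of_mod hK fun y hy => ?_
    have h1 : q (β ⟨y, hy⟩) = q (w * ⟨y, hy⟩ * w⁻¹) := by
      rw [← hα, hg, map_mul, map_mul, map_inv]
    set k' : ↥K := w⁻¹ * β ⟨y, hy⟩ * w * (⟨y, hy⟩ : ↥K)⁻¹ with hk'
    have hkZ : k' ∈ Z := by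
      rw [← QuotientGroup.eq_one_iff]
      show q _ = 1
      rw [hk', map_mul, map_mul, map_mul, h1, map_mul, map_mul, map_inv, map_inv]
      group
    have e1 : c * y * c⁻¹ * y⁻¹ = k' := by
      rw [hk', hc]; simp [hβ, mul_assoc]
    exact ⟨e1 ▸ k'.2, fun z hz => e1 ▸
      congrArg Subtype.val (Subgroup.mem_center_iff.1 hkZ ⟨z, hz⟩)⟩
  -- the inner part squares to one
  have hsq : q w * q w = 1 := by
    refine moved hk P _ hgP fun n hn => ?_
    obtain ⟨m, rfl⟩ := QuotientGroup.mk'_surjective Z n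
    set w' := m * w * m⁻¹ with hw'
    have hw'T : (w' : X) ∈ (T : Subgroup X) := hnorm _ hn m rfl w hwT
    have hmb : (m : X) * b * (m : X)⁻¹ = (w' : X) * c := by
      have hcm := mem_centralizer_iff.1 hcK (m : X)⁻¹ (inv_mem m.2)
      calc (m : X) * b * (m : X)⁻¹ = (m : X) * w * (c * (m : X)⁻¹) := by rw [hc]; group
        _ = (m : X) * w * ((m : X)⁻¹ * c) := by rw [hcm]
        _ = _ := by simp [hw', mul_assoc]
    have hmB : (w' : X) * c ∈ B := hmb ▸ h.closed.2 b hb _ (hmb ▸ mul_mem hw'T hcT)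
    have hbc := h.bcomm hb hmB
    rw [show b = (w : X) * c by rw [hc]; group] at hbc
    have hcw := mem_centralizer_iff.1 hcK w w.2
    have hcw' := mem_centralizer_iff.1 hcK w' w'.2
    rw [← map_inv, ← map_mul, ← map_mul, ← map_mul, ← map_mul, ← hw']
    refine congrArg q (Subtype.ext ?_)
    simp only [Subgroup.coe_mul]
    refine mul_right_cancel (b := c * c) ?_
    calc (w : X) * w' * (c * c) = w * (w' * c) * c := by group
      _ = w * (c * w') * c := by rw [hcw']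
      _ = w * c * (w' * c) := by group
      _ = w' * c * (w * c) := hbc
      _ = w' * (c * w) * c := by group
      _ = w' * (w * c) * c := by rw [hcw]
      _ = w' * w * (c * c) := by group
  exact ⟨w, h.mem_om_of_img hK hOm (Subgroup.subset_closure ⟨hgP, by rw [pow_two]; exact hsq⟩), hcK⟩

/-- `B` lies in the layer times `B ∩ O₂(X)`. -/
theorem le_layer_sup : B ≤ Cfsg.layer X ⊔ (B ⊓ Cfsg.pCore 2 X) := by
  classical
  haveI : Fintype (Subgroup X) := Fintype.ofFinite _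
  intro b hb
  suffices ∀ s : Finset (Subgroup X), (∀ K ∈ s, Cfsg.IsComponent K) →
      ∃ e ∈ Cfsg.layer X, ∃ c ∈ B, b = e * c ∧ ∀ K ∈ s, c ∈ centralizer (K : Set X) by
    obtain ⟨e, he, c, hc, rfl, hall⟩ := this (Finset.univ.filter fun K => Cfsg.IsComponent K)
      (fun K hK => (Finset.mem_filter.1 hK).2)
    exact mul_mem (mem_sup_left he) (mem_sup_right ⟨hc, h.centralizer_layer_le
      (Walter.Pairs.mem_centralizer_layer fun K hK => hall K (by simp [hK]))⟩)
  intro s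
  induction s using Finset.induction with
  | empty => exact fun _ => ⟨1, one_mem _, b, hb, (one_mul b).symm, by simp⟩
  | @insert K s hKs ih =>
    intro hs
    obtain ⟨e, he, c, hc, hbc, hall⟩ := ih fun L hL => hs L (Finset.mem_insert_of_mem hL)
    have hK := hs K (Finset.mem_insert_self K s)
    obtain ⟨w, hw, hwc⟩ := h.inner hK hc
    refine ⟨e * w, mul_mem he (Layer.component_le_layer hK w.2), (w : X)⁻¹ * c,
      mul_mem (inv_mem (h.om_le hw)) hc, by rw [hbc]; group, fun L hL => ?_⟩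
    rcases Finset.mem_insert.1 hL with rfl | hL
    · exact hwc
    · exact mul_mem (inv_mem (Component.le_centralizer_of_ne hK (hs L (Finset.mem_insert_of_mem hL))
        (fun e' => hKs (e' ▸ hL)) w.2)) (hall L hL)

end Setting

end Cfsg.Agent.Lib.GoldStructure10
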