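import Cfsg.Agent.Lib.Goldschmidt53.Facts

/-!
# The fact about the known groups needed for the structural form of Goldschmidt's theorem (helper10)

An element of a Sylow subgroup which commutes with its conjugates under the normaliser of that
Sylow subgroup lies in `Ω₁`.  So an abelian strongly closed subgroup lies in `Ω₁`.
-/

set_option autoImplicit false
set_option linter.style.haveILetI false

universe u v

namespace Cfsg.Agent.Lib.GoldStructure10

open Subgroup Goldschmidt53
open scoped Pointwise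

/-- Every element of `P` commuting with its `N(P)`-conjugates squares to one. -/
def Moved {L : Type u} [Group L] (P : Subgroup L) : Prop :=
  ∀ x ∈ P, (∀ g ∈ normalizer (P : Set L), x * (g * x * g⁻¹) = g * x * g⁻¹ * x) → x * x = 1

theorem Moved.congr {L : Type u} {M : Type v} [Group L] [Group M] (e : L ≃* M) {P : Subgroup L}
    {P' : Subgroup M} (hP : ∀ x, e x ∈ P' ↔ x ∈ P) (h : Moved P') : Moved P := by
  intro x hx hcomm
  refine e.injective ?_
  rw [map_mul, map_one]
  refine h (e x) ((hP x).2 hx) fun g hg => ?_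
  obtain ⟨g, rfl⟩ := e.surjective g
  have hgN : g ∈ normalizer (P : Set L) := by
    rw [mem_normalizer_iff] at hg ⊢
    intro y
    rw [← hP, ← hP, map_mul, map_mul, map_inv]
    exact hg (e y)
  have h1 := congrArg e (hcomm g hgN)
  simpa only [map_mul, map_inv] using h1

theorem unitary_model {F : Type} [Field F] [Fintype F] {n : ℕ} (hF : Fintype.card F = (2 ^ n) ^ 2)
    {x : F} (hx : x + x ^ 2 ^ n = 1) (hn : 2 ≤ n) : Moved (Inter3308.tGroup hF hx) := by
  classical
  rintro _ ⟨p, rfl⟩ hcomm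
  by_cases hp : p.1.1 = 0
  · exact UnitaryModel.sq_of_fst_zero hF hx hp
  exfalso
  obtain ⟨g, hg⟩ := IsCyclic.exists_generator (α := Fˣ)
  have h1 := hcomm _ (Inter3308.torus_mem hF hx g)
  rw [Inter3308.torus_conj, Inter3308.tU_mul, Inter3308.tU_mul] at h1
  have h2 := congrArg (fun s : Cfsg.Agent.Lib.U3Sylow.Pairs F (2 ^ n) => s.1.2)
    (Inter3308.tU_inj hF hx h1)
  simp only [Inter3308.pm, Inter3308.tw] at h2
  have he : (g : F) ≠ 0 := g.ne_zero
  have hpq : p.1.1 ^ 2 ^ n ≠ 0 := pow_ne_zero _ hp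
  have h3 : Inter3308.mu n (g : F) ^ 2 ^ n = Inter3308.mu n (g : F) := by
    refine mul_right_cancel₀ (mul_ne_zero hpq hp) ?_
    rw [mul_pow] at h2
    linear_combination -h2
  have hqq : ((g : F) ^ 2 ^ n) ^ 2 ^ n = (g : F) := by
    rw [← pow_mul, ← sq, ← hF, FiniteField.pow_card]
  rw [Inter3308.mu, mul_pow, mul_pow, inv_pow, hqq] at h3
  have h4 : (g : F) ^ (3 * 2 ^ n) = (g : F) ^ 3 := by
    rw [show 3 * 2 ^ n = 2 ^ n * 3 from mul_comm _ _, pow_mul]
    field_simp at h3
    linear_combination -h3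
  have h5 : g ^ (3 * (2 ^ n - 1)) = 1 := by
    refine Units.ext ?_
    rw [Units.val_pow_eq_pow_val, Units.val_one]
    refine mul_right_cancel₀ (pow_ne_zero 3 he) ?_
    rw [← pow_add, one_mul]
    convert h4 using 2
    have := Nat.two_pow_pos n
    omega
  have hord : orderOf g = (2 ^ n) ^ 2 - 1 := by
    rw [orderOf_eq_card_of_forall_mem_zpowers hg, Nat.card_eq_fintype_card, Fintype.card_units, hF]
  have hd := orderOf_dvd_of_pow_eq_one h5
  have hq : 4 ≤ 2 ^ n := le_trans (by norm_num) (Nat.pow_le_pow_right two_pos hn)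
  rw [hord, show (2 ^ n) ^ 2 - 1 = (2 ^ n + 1) * (2 ^ n - 1) by
    rw [← Nat.sq_sub_sq, one_pow]] at hd
  have := Nat.le_of_dvd (by norm_num) ((Nat.mul_dvd_mul_iff_right (by omega)).1 hd)
  omega

theorem moved {L : Type u} [Group L] [Finite L] (hL : IsKnown L) (P : Sylow 2 L) :
    Moved (P : Subgroup L) := by
  haveI : Fact (Nat.Prime 2) := ⟨Nat.prime_two⟩
  rcases hL with hA | hS | ⟨F, _, _, n, hn, hF, ⟨e⟩⟩
  · intro x hx _
    have hF := (Walter.knownFacts BenderOne.propSplitFinal).1 L hA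
    rw [← pow_two]
    exact (hF.elementary P).2 x hx
  · intro x hx hcomm
    obtain ⟨q, Z, τ, h⟩ := Thompson3Prime33.szFacts L hS P
    rw [h.sq_iff x hx]
    by_contra hxZ
    have hx2Z : x * x ∈ Z := h.sq_mem x hx
    have hz1 : x * x ≠ 1 := fun e => hxZ ((h.sq_iff x hx).1 e)
    have hfix : ∀ k : ℕ, τ ^ k * (x * x) * (τ ^ k)⁻¹ = x * x := by
      intro k
      have hk := pow_mem h.τ_P k
      set y := τ ^ k * x * (τ ^ k)⁻¹ with hy
      have hyP : y ∈ (P : Subgroup L) := (mem_normalizer_iff.1 hk x).1 hx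
      have hyy : y * y = τ ^ k * (x * x) * (τ ^ k)⁻¹ := by rw [hy]; group
      rcases h.cent x hx hxZ y hyP (hcomm _ hk) with h1 | h1
      · refine absurd ((h.sq_iff y hyP).2 h1) ?_
        rw [hyy, conj_eq_one_iff]
        exact hz1
      · rw [← hyy]
        set z := x⁻¹ * y with hz
        have hyz : y = x * z := by rw [hz]; group
        have hzx : z * x = x * z := h.central z h1 x hx
        have hzz : z * z = 1 := (h.sq_iff z (h.Z_le h1)).2 h1
        rw [hyz, mul_assoc, ← mul_assoc z, hzx, mul_assoc x z z, hzz, mul_one]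
    have hle : Nat.card Z ≤ Nat.card Bool := by
      classical
      refine Nat.card_le_card_of_injective (fun w : Z => decide ((w : L) = 1)) fun a b hab => ?_
      simp only [decide_eq_decide] at hab
      refine Subtype.ext ?_
      by_cases ha : (a : L) = 1
      · rw [ha, hab.1 ha]
      · have hb : (b : L) ≠ 1 := fun hb => ha (hab.2 hb)
        obtain ⟨i, hi⟩ := h.τ_trans _ hx2Z _ a.2 hz1 ha
        obtain ⟨j, hj⟩ := h.τ_trans _ hx2Z _ b.2 hz1 hb
        rw [← hi, ← hj, hfix, hfix]
    obtain ⟨m, hm, hq⟩ := h.q_eq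
    rw [h.card_Z, hq, show Nat.card Bool = 2 by simp] at hle
    have : 2 ^ 3 ≤ 2 ^ (2 * m + 1) := Nat.pow_le_pow_right two_pos (by omega)
    omega
  · haveI : Finite (Cfsg.PSU 3 F (2 ^ n)) := Quotient.finite _
    obtain ⟨x, hx⟩ := Unitary.trace_surj hF (y := 1) (one_pow _)
    obtain ⟨T, hT⟩ := Inter3308.exists_sylow_tGroup hF hx
    obtain ⟨g, hg⟩ := MulAction.exists_smul_eq (Cfsg.PSU 3 F (2 ^ n))
      (P.mapSurjective (f := e.toMonoidHom) e.surjective) T
    refine Moved.congr (e.trans (MulAut.conj g)) (fun y => ?_) (unitary_model hF hx hn)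
    rw [← hT, ← hg, Sylow.coe_subgroup_smul]
    show MulAut.conj g (e y) ∈ MulAut.conj g • ((P : Subgroup L).map e.toMonoidHom) ↔ _
    constructor
    · intro hy
      obtain ⟨w, ⟨z, hz, rfl⟩, hzy⟩ := hy
      have h1 : MulAut.conj g (e z) = MulAut.conj g (e y) := hzy
      exact e.injective ((MulAut.conj g).injective h1) ▸ hz
    · exact fun hy => Subgroup.smul_mem_pointwise_smul (a := MulAut.conj g) (e y) _ ⟨y, hy, rfl⟩

end Cfsg.Agent.Lib.GoldStructure10
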