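import Cfsg.Agent.Lib.GoldStructure10.Known
import Cfsg.Agent.Lib.GoldStructure10.Central
import Cfsg.Agent.Lib.Goldschmidt53.Local

/-!
# The setting of the structural form of Goldschmidt's theorem (helper10)

`X` has trivial odd core and is generated by the conjugates of an abelian strongly closed
2-subgroup `B`.  Every component is moved by `Ω₁(B)`.
-/

set_option autoImplicit false
set_option linter.style.haveILetI false
set_option linter.unusedSectionVars false

universe u

namespace Cfsg.Agent.Lib.GoldStructure10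

open Subgroup Goldschmidt53 Cfsg.Agent.Lib.Components
open scoped IsMulCommutative

/-- The hypotheses of S2775 after factoring out the odd core. -/
structure Setting {X : Type u} [Group X] (T : Sylow 2 X) (B : Subgroup X) : Prop where
  core : Cfsg.oddCore X = ⊥
  comm : IsMulCommutative ↥B
  closed : Cfsg.IsStronglyClosed B (T : Subgroup X)
  gen : Subgroup.normalClosure (B : Set X) = ⊤
  simple : PropSimple.{u}

namespace Setting

variable {X : Type u} [Group X] [Finite X] {T : Sylow 2 X} {B : Subgroup X} (h : Setting T B)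
include h

theorem bcomm {a b : X} (ha : a ∈ B) (hb : b ∈ B) : a * b = b * a :=
  haveI := h.comm
  setLike_mul_comm ha hb

theorem mem_om {x : X} : x ∈ Cfsg.omegaOne 2 B ↔ x ∈ B ∧ x * x = 1 := by
  rw [PGroups.mem_omegaOne_iff_of_comm h.comm, pow_two]

theorem om_le : Cfsg.omegaOne 2 B ≤ B := PGroups.omegaOne_le 2 B

theorem loc : LocalSetting T (Cfsg.omegaOne 2 B) (Nat.card X + 1) := by
  haveI : Fact (Nat.Prime 2) := ⟨Nat.prime_two⟩
  refine ⟨h.core, Nat.lt_succ_self _, h.simple _, PGroups.elemAb_omegaOne h.comm,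
    h.om_le.trans h.closed.1, fun x hx g hg => ?_⟩
  obtain ⟨hxB, hx2⟩ := h.mem_om.1 hx
  exact h.mem_om.2 ⟨h.closed.2 x hxB g hg, by
    rw [show g * x * g⁻¹ * (g * x * g⁻¹) = g * (x * x) * g⁻¹ by group, hx2, mul_one,
      mul_inv_cancel]⟩

theorem conj_mem {t b : X} (ht : t ∈ (T : Subgroup X)) (hb : b ∈ B) : t * b * t⁻¹ ∈ B :=
  h.closed.2 b hb t (mul_mem (mul_mem ht (h.closed.1 hb)) (inv_mem ht))

/-- A normal subgroup containing `B` is everything. -/
theorem eq_top_of_le {N : Subgroup X} [N.Normal] (hN : B ≤ N) : N = ⊤ :=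
  top_le_iff.1 (h.gen ▸ Subgroup.normalClosure_le_normal hN)

theorem pcore_central {x : X} (hx : x ∈ B) (hx' : x ∈ Cfsg.pCore 2 X) : x ∈ center X := by
  haveI : Fact (Nat.Prime 2) := ⟨Nat.prime_two⟩
  haveI := Goldschmidt53.pCore_normal X
  have hc : ∀ g : X, g * x * g⁻¹ ∈ B := fun g =>
    h.closed.2 x hx g (Cores.pCore_le_sylow T
      (Subgroup.Normal.conj_mem inferInstance x hx' g))
  set C := normalClosure ({x} : Set X) with hC
  have hCB : B ≤ centralizer (C : Set X) := by
    intro b hb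
    rw [hC, normalClosure, centralizer_closure]
    refine mem_centralizer_iff.2 fun y hy => ?_
    obtain ⟨a, ha, hconj⟩ := Group.mem_conjugatesOfSet_iff.1 hy
    rw [Set.mem_singleton_iff] at ha
    rw [ha] at hconj
    obtain ⟨g, rfl⟩ := isConj_iff.1 hconj
    exact h.bcomm (hc g) hb
  have hall := h.eq_top_of_le hCB
  exact mem_center_iff.2 fun g =>
    (mem_centralizer_iff.1 (hall ▸ mem_top g : g ∈ centralizer (C : Set X)) x
      (subset_normalClosure rfl)).symm

/-- An element centralising the layer lies in `O₂(X)`. -/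
theorem centralizer_layer_le : centralizer (Cfsg.layer X : Set X) ≤ Cfsg.pCore 2 X := by
  haveI : Fact (Nat.Prime 2) := ⟨Nat.prime_two⟩
  haveI := Goldschmidt53.pCore_normal X
  haveI : (Cfsg.layer X).Normal := Layer.layer_normal
  set R := Cfsg.pCore 2 X with hR
  set q := QuotientGroup.mk' (center X) with hq
  haveI : (R.map q).Normal :=
    Subgroup.Normal.map inferInstance q (QuotientGroup.mk'_surjective _)
  have hstab : ∀ g : X, ∀ r ∈ R, g * r * g⁻¹ * r⁻¹ ∈ center X := by
    set D := (centralizer ((R.map q : Subgroup _) : Set (X ⧸ center X))).comap q with hD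
    haveI : D.Normal := by rw [hD]; infer_instance
    have hBD : B ≤ D := by
      intro b hb
      refine Subgroup.mem_comap.2 (mem_centralizer_iff.2 ?_)
      rintro _ ⟨r, hr, rfl⟩
      have hrT := Cores.pCore_le_sylow T hr
      have h1 : r * b * r⁻¹ * b⁻¹ ∈ center X := by
        refine h.pcore_central (mul_mem (h.conj_mem hrT hb) (inv_mem hb)) ?_
        rw [show r * b * r⁻¹ * b⁻¹ = r * (b * r⁻¹ * b⁻¹) by group]
        exact mul_mem hr (Subgroup.Normal.conj_mem inferInstance _ (inv_mem hr) b)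
      have h2 : q (r * b * r⁻¹ * b⁻¹) = 1 := (QuotientGroup.eq_one_iff _).2 h1
      rw [map_mul, map_mul, map_mul, map_inv, map_inv, mul_inv_eq_one,
        mul_inv_eq_iff_eq_mul] at h2
      exact h2
    intro g r hr
    have hg : g ∈ D := h.eq_top_of_le hBD ▸ mem_top g
    refine (QuotientGroup.eq_one_iff _).1 ?_
    show q (g * r * g⁻¹ * r⁻¹) = 1
    rw [map_mul, map_mul, map_mul, map_inv, map_inv,
      ← mem_centralizer_iff.1 (Subgroup.mem_comap.1 hg) _ (mem_map_of_mem q hr)]
    group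
  refine Cores.le_pCore ?_
  refine IsPGroup.iff_orderOf.2 fun y => ?_
  obtain ⟨i, d, hd, hdi⟩ := Nat.exists_eq_two_pow_mul_odd (orderOf_pos (y : X)).ne'
  refine ⟨i, ?_⟩
  rw [← Subgroup.orderOf_coe, hdi]
  suffices hd1 : d = 1 by rw [hd1, mul_one]
  set w : X := (y : X) ^ 2 ^ i with hw
  have hwY : w ∈ centralizer (Cfsg.layer X : Set X) := Subgroup.pow_mem _ y.2 _
  have hwo : orderOf w = d := by
    rw [hw, orderOf_pow' _ (pow_ne_zero i two_ne_zero), hdi, Nat.gcd_comm,
      Nat.gcd_mul_right_right, Nat.mul_div_cancel_left _ (pow_pos two_pos i)]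
  have hwR : ∀ r ∈ R, r * w = w * r := by
    intro r hr
    set e := w * r * w⁻¹ * r⁻¹ with hedef
    have hec : e ∈ center X := hstab w r hr
    have hwr : w * r * w⁻¹ = e * r := (inv_mul_cancel_right _ _).symm
    have hpow : ∀ n : ℕ, w ^ n * r * (w ^ n)⁻¹ = e ^ n * r := by
      intro n
      induction n with
      | zero => simp
      | succ n ih =>
        rw [show w ^ (n + 1) * r * (w ^ (n + 1))⁻¹ = w * (w ^ n * r * (w ^ n)⁻¹) * w⁻¹ by
          rw [pow_succ']; group, ih]
        calc w * (e ^ n * r) * w⁻¹ = (w * e ^ n * w⁻¹) * (w * r * w⁻¹) := by group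
          _ = e ^ n * (e * r) := by
            rw [mem_center_iff.1 (pow_mem hec n) w, mul_inv_cancel_right, hwr]
          _ = e ^ (n + 1) * r := by rw [pow_succ]; exact (mul_assoc _ _ _).symm
    have h1 := hpow (orderOf w)
    rw [pow_orderOf_eq_one, one_mul, inv_one, mul_one, eq_comm, mul_eq_right, hwo] at h1
    have heR : e ∈ R := mul_mem (Subgroup.Normal.conj_mem inferInstance r hr w) (inv_mem hr)
    obtain ⟨j, hj⟩ := IsPGroup.iff_orderOf.1 (Cores.pCore_isPGroup 2) ⟨e, heR⟩
    rw [Subgroup.orderOf_mk] at hj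
    have he1 : e = 1 := orderOf_eq_one_iff.1 (Nat.eq_one_of_dvd_coprimes
      ((Nat.coprime_two_right.2 hd).pow_right j) (orderOf_dvd_of_pow_eq_one h1) hj.dvd)
    rw [hedef, mul_inv_eq_one, mul_inv_eq_iff_eq_mul] at he1
    exact he1.symm
  have hwF : w ∈ centralizer (Cfsg.generalizedFittingSubgroup X : Set X) := by
    rw [mem_centralizer_iff]
    intro z hz
    have hle : Cfsg.generalizedFittingSubgroup X ≤ centralizer ({w} : Set X) := sup_le
      (fun k hk => mem_centralizer_singleton_iff.2 (mem_centralizer_iff.1 hwY k hk))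
      (fun k hk => mem_centralizer_singleton_iff.2 (hwR k (h.loc.fitting.le hk)))
    exact mem_centralizer_singleton_iff.1 (hle hz)
  haveI : (Cfsg.generalizedFittingSubgroup X).Normal := by
    haveI : (Cfsg.fittingSubgroup X).Normal := by
      rw [h.loc.fitting]; exact Goldschmidt53.pCore_normal X
    unfold Cfsg.generalizedFittingSubgroup; infer_instance
  set C := centralizer (Cfsg.generalizedFittingSubgroup X : Set X) with hC
  haveI : IsMulCommutative ↥C := ⟨⟨fun x z => Subtype.ext
    (mem_centralizer_iff.1 z.2 x (GenFitting.centralizer_le x.2))⟩⟩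
  have hCR : C ≤ R := by
    rw [hR, ← h.loc.fitting]
    exact Cores.le_fittingSubgroup CommGroup.isNilpotent
  obtain ⟨j, hj⟩ := IsPGroup.iff_orderOf.1 ((Cores.pCore_isPGroup 2).to_le hCR) ⟨w, hwF⟩
  rw [Subgroup.orderOf_mk, hwo] at hj
  rcases j with _ | j
  · simpa using hj
  · exact absurd (hj ▸ dvd_pow_self 2 j.succ_ne_zero) hd.not_two_dvd_nat

/-- Every component is moved by `Ω₁(B)`. -/
theorem moved_comp {K : Subgroup X} (hK : Cfsg.IsComponent K) :
    ¬ ∀ x : ↥K, (x : X) ∈ Cfsg.omegaOne 2 B → x ∈ Subgroup.center ↥K := by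
  classical
  haveI : Fact (Nat.Prime 2) := ⟨Nat.prime_two⟩
  intro hcK
  set A := Cfsg.omegaOne 2 B with hA
  let Cl : Set (Subgroup X) :=
    {L | Cfsg.IsComponent L ∧ A ≤ centralizer (L : Set X)}
  set M := sSup Cl with hM
  have hKM : K ≤ M := le_sSup ⟨hK, h.loc.le_centralizer hK hcK⟩
  have hcls : ∀ L ∈ Cl, ∀ g : X, L.map (MulAut.conj g).toMonoidHom ∈ Cl := by
    intro L hL g
    refine ⟨Component.conj hL.1 g, ?_⟩
    obtain ⟨k, hk, hn⟩ := h.loc.frattini Goldschmidt53.facts g
    set L' := L.map (MulAut.conj g).toMonoidHom with hL'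
    have hL'c : Cfsg.IsComponent L' := Component.conj hL.1 g
    intro a ha
    refine mem_centralizer_iff.2 ?_
    rintro _ ⟨z, hz, rfl⟩
    show g * z * g⁻¹ * a = a * (g * z * g⁻¹)
    have hz3 : k⁻¹ * (g * z * g⁻¹) * k ∈ L' :=
      (mem_normalizer_iff''.1 (Layer.layer_le_normalizer hL'c hk) _).1 (mem_map_of_mem _ hz)
    obtain ⟨z', hz', hz3⟩ := hz3
    -- `k g` normalises `Ω₁(B)`
    have ha' : (k * g)⁻¹ * a * (k * g) ∈ A := (mem_normalizer_iff''.1 hn a).1 ha
    have hc := mem_centralizer_iff.1 (hL.2 ha') z' hz'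
    have e' : g * z' * g⁻¹ = k⁻¹ * (g * z * g⁻¹) * k := hz3
    calc g * z * g⁻¹ * a = k * (k⁻¹ * (g * z * g⁻¹) * k) * k⁻¹ * a := by group
      _ = k * (g * z' * g⁻¹) * k⁻¹ * a := by rw [e']
      _ = (k * g) * (z' * ((k * g)⁻¹ * a * (k * g))) * (k * g)⁻¹ := by group
      _ = (k * g) * (((k * g)⁻¹ * a * (k * g)) * z') * (k * g)⁻¹ := by rw [hc]
      _ = a * (k * (g * z' * g⁻¹) * k⁻¹) := by group
      _ = a * (k * (k⁻¹ * (g * z * g⁻¹) * k) * k⁻¹) := by rw [e']
      _ = a * (g * z * g⁻¹) := by group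
  haveI hMn : M.Normal := by
    refine ⟨fun x hx g => ?_⟩
    suffices M ≤ M.comap (MulAut.conj g).toMonoidHom from this hx
    exact sSup_le fun L hL => Subgroup.map_le_iff_le_comap.1 (le_sSup (hcls L hL g))
  have hperf : ⁅M, M⁆ = M := by
    refine le_antisymm (Subgroup.commutator_le_self _) (sSup_le fun L hL => ?_)
    rw [← Component.commutator_self hL.1]
    exact Subgroup.commutator_mono (le_sSup hL) (le_sSup hL)
  have hAM : ∀ m ∈ M, ∀ a ∈ A, m * a = a * m := fun m hm a ha => by
    have hle : M ≤ centralizer (A : Set X) := sSup_le fun L hL => le_centralizer_iff.1 hL.2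
    exact (mem_centralizer_iff.1 (hle hm) a ha).symm
  have hBM := centralizes_of_omega h.core T B (fun a ha b hb => h.bcomm ha hb) h.closed M hperf
    (fun b hb hb2 m hm => hAM m hm b (h.mem_om.2 ⟨hb, hb2⟩))
  have htop := h.eq_top_of_le hBM
  refine Component.not_isSolvable hK (Group.isSolvable_of_comm fun a b => Subtype.ext ?_)
  exact (mem_centralizer_iff.1 (htop ▸ mem_top (a : X) : (a : X) ∈ centralizer (M : Set X)) b
    (hKM b.2)).symm

end Setting

end Cfsg.Agent.Lib.GoldStructure10
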