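import Cfsg.Agent.Lib.GoldStructure10.Inner

/-!
# The structure of `X` (helper10)

`X = E(X) (B ∩ O₂(X))`, `B = O₂(X) Ω₁(T)` and `E(X)/Z(E(X))` is the product of the components
modulo their centres.
-/

set_option autoImplicit false
set_option linter.style.haveILetI false
set_option linter.unusedSectionVars false

universe u

namespace Cfsg.Agent.Lib.GoldStructure10

open Subgroup Goldschmidt53 Cfsg.Agent.Lib.Components
open scoped IsMulCommutative commutatorElement

/-- The components, enumerated. -/
structure Enum (X : Type u) [Group X] where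
  r : ℕ
  K : Fin r → Subgroup X
  comp : ∀ i, Cfsg.IsComponent (K i)
  inj : Function.Injective K
  all : ∀ L : Subgroup X, Cfsg.IsComponent L → ∃ i, K i = L

theorem exists_enum (X : Type u) [Group X] [Finite X] : Nonempty (Enum X) := by
  classical
  haveI : Finite {L : Subgroup X // Cfsg.IsComponent L} := inferInstance
  obtain ⟨r, ⟨e⟩⟩ := Finite.exists_equiv_fin {L : Subgroup X // Cfsg.IsComponent L}
  exact ⟨⟨r, fun i => (e.symm i).1, fun i => (e.symm i).2,
    fun i j hij => e.symm.injective (Subtype.ext hij),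
    fun L hL => ⟨e ⟨L, hL⟩, by simp⟩⟩⟩

namespace Enum

variable {X : Type u} [Group X] [Finite X] (c : Enum X)

theorem pw : Pairwise fun i j => ∀ x y : X, x ∈ c.K i → y ∈ c.K j → Commute x y :=
  fun i j hij x y hx hy => (mem_centralizer_iff.1 (Component.le_centralizer_of_ne (c.comp j)
    (c.comp i) (fun e => hij (c.inj e).symm) hy) x hx)

theorem commute {i j : Fin c.r} (hij : i ≠ j) {x y : X} (hx : x ∈ c.K i) (hy : y ∈ c.K j) :
    Commute x y :=
  (mem_centralizer_iff.1 (Component.le_centralizer_of_ne (c.comp j) (c.comp i)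
    (fun e => hij (c.inj e).symm) hy) x hx)

/-- The product map onto the layer. -/
noncomputable def prod : (∀ i, ↥(c.K i)) →* X :=
  Subgroup.noncommPiCoprod c.pw

theorem prod_range : c.prod.range = Cfsg.layer X := by
  rw [prod, Subgroup.noncommPiCoprod_range]
  exact le_antisymm (iSup_le fun i => Layer.component_le_layer (c.comp i))
    (sSup_le fun L hL => by
      obtain ⟨i, rfl⟩ := c.all L hL
      exact le_iSup c.K i)

theorem prod_mem (f : ∀ i, ↥(c.K i)) : c.prod f ∈ Cfsg.layer X :=
  c.prod_range ▸ MonoidHom.mem_range.2 ⟨f, rfl⟩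

theorem exists_prod {e : X} (he : e ∈ Cfsg.layer X) : ∃ f, c.prod f = e :=
  MonoidHom.mem_range.1 (c.prod_range.symm ▸ he)

/-- The product lies in a subgroup which contains all factors. -/
theorem prod_mem_of {N : Subgroup X} (f : ∀ i, ↥(c.K i)) (hf : ∀ i, (f i : X) ∈ N) :
    c.prod f ∈ N :=
  show Finset.univ.noncommProd (fun i => (c.K i).subtype (f i))
      (fun _ _ _ _ hij => c.commute hij (f _).2 (f _).2) ∈ N from
    Subgroup.noncommProd_mem N _ fun i _ => hf i

/-- The product acts on a factor as the coordinate does. -/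
theorem prod_conj (f : ∀ i, ↥(c.K i)) (i : Fin c.r) {y : X} (hy : y ∈ c.K i) :
    c.prod f * y * (c.prod f)⁻¹ = (f i : X) * y * (f i : X)⁻¹ := by
  classical
  set f' := Function.update f i 1 with hf'
  have hsplit : f = Pi.mulSingle i (f i) * f' := by
    funext j
    rcases eq_or_ne j i with rfl | hj
    · simp [hf']
    · simp [hf', Pi.mulSingle_eq_of_ne hj, Function.update_of_ne hj]
  have hcen : c.prod f' ∈ centralizer ({y} : Set X) := by
    refine c.prod_mem_of f' fun j => mem_centralizer_singleton_iff.2 ?_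
    rcases eq_or_ne j i with rfl | hj
    · simp [hf']
    · exact (c.commute hj (f' j).2 hy).eq
  have h1 : c.prod f = (f i : X) * c.prod f' := by
    conv_lhs => rw [hsplit]
    rw [map_mul]
    congr 1
    exact Subgroup.noncommPiCoprod_mulSingle i (f i)
  rw [h1]
  have h2 := mem_centralizer_singleton_iff.1 hcen
  calc (f i : X) * c.prod f' * y * ((f i : X) * c.prod f')⁻¹
      = (f i : X) * (c.prod f' * y) * (c.prod f')⁻¹ * (f i : X)⁻¹ := by group
    _ = (f i : X) * (y * c.prod f') * (c.prod f')⁻¹ * (f i : X)⁻¹ := by rw [h2]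
    _ = _ := by group

/-- A product centralising the layer has central coordinates, and conversely. -/
theorem prod_central_iff (f : ∀ i, ↥(c.K i)) :
    c.prod f ∈ centralizer (Cfsg.layer X : Set X) ↔ ∀ i, f i ∈ center ↥(c.K i) := by
  constructor
  · intro h i
    refine mem_center_iff.2 fun y => Subtype.ext ?_
    have h1 := c.prod_conj f i y.2
    rw [← mem_centralizer_iff.1 h y (Layer.component_le_layer (c.comp i) y.2),
      mul_inv_cancel_right] at h1
    simp only [Subgroup.coe_mul]
    calc (y : X) * f i = (f i : X) * y * (f i : X)⁻¹ * f i := by rw [← h1]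
      _ = _ := by group
  · intro h
    refine Walter.Pairs.mem_centralizer_layer fun L hL => ?_
    obtain ⟨i, rfl⟩ := c.all L hL
    refine mem_centralizer_iff.2 fun y hy => ?_
    have h1 := c.prod_conj f i hy
    have h2 : (y : X) * f i = f i * y := congrArg Subtype.val (mem_center_iff.1 (h i) ⟨y, hy⟩)
    rw [← h2, mul_inv_cancel_right] at h1
    exact (mul_inv_eq_iff_eq_mul.1 h1).symm

/-- The layer modulo its centre is the product of the components modulo their centres. -/
theorem layer_quot :
    Nonempty (↥(Cfsg.layer X) ⧸ Subgroup.center ↥(Cfsg.layer X) ≃*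
      ((i : Fin c.r) → ↥(c.K i) ⧸ Subgroup.center ↥(c.K i))) := by
  let χ : (∀ i, ↥(c.K i)) →* ↥(Cfsg.layer X) := c.prod.codRestrict _ c.prod_mem
  have hχ : Function.Surjective χ := fun e => by
    obtain ⟨f, hf⟩ := c.exists_prod e.2
    exact ⟨f, Subtype.ext hf⟩
  let φ := (QuotientGroup.mk' (Subgroup.center ↥(Cfsg.layer X))).comp χ
  have hφ : Function.Surjective φ := (QuotientGroup.mk'_surjective _).comp hχ
  let ψ : (∀ i, ↥(c.K i)) →* ((i : Fin c.r) → ↥(c.K i) ⧸ Subgroup.center ↥(c.K i)) :=
    { toFun := fun f i => QuotientGroup.mk' _ (f i)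
      map_one' := funext fun i => map_one _
      map_mul' := fun f g => funext fun i => map_mul _ _ _ }
  have hψ : Function.Surjective ψ := fun y => by
    choose f hf using fun i => QuotientGroup.mk'_surjective _ (y i)
    exact ⟨f, funext hf⟩
  have hker : φ.ker = ψ.ker := by
    ext f
    rw [MonoidHom.mem_ker, MonoidHom.mem_ker]
    show QuotientGroup.mk' _ (χ f) = 1 ↔ (fun i => QuotientGroup.mk' _ (f i)) = 1
    rw [funext_iff]
    simp only [QuotientGroup.mk'_apply, Pi.one_apply, QuotientGroup.eq_one_iff]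
    rw [← c.prod_central_iff, mem_center_iff, mem_centralizer_iff]
    exact ⟨fun h y hy => congrArg Subtype.val (h ⟨y, hy⟩), fun h y => Subtype.ext (h y y.2)⟩
  exact ⟨((QuotientGroup.quotientKerEquivOfSurjective φ hφ).symm.trans
    (QuotientGroup.quotientMulEquivOfEq hker)).trans
    (QuotientGroup.quotientKerEquivOfSurjective ψ hψ)⟩

end Enum

namespace Setting

variable {X : Type u} [Group X] [Finite X] {T : Sylow 2 X} {B : Subgroup X} (h : Setting T B)
include h

theorem inf_pcore_le_center : B ⊓ Cfsg.pCore 2 X ≤ center X := fun _ hx =>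
  h.pcore_central hx.1 hx.2

theorem layer_sup_eq : Cfsg.layer X ⊔ (B ⊓ Cfsg.pCore 2 X) = ⊤ := by
  haveI : (Cfsg.layer X).Normal := Layer.layer_normal
  haveI : (B ⊓ Cfsg.pCore 2 X).Normal := ⟨fun x hx g => by
    rwa [mem_center_iff.1 (h.inf_pcore_le_center hx) g, mul_inv_cancel_right]⟩
  exact h.eq_top_of_le h.le_layer_sup

theorem exists_split (x : X) : ∃ e ∈ Cfsg.layer X, ∃ z ∈ B ⊓ Cfsg.pCore 2 X, x = e * z := by
  haveI : (Cfsg.layer X).Normal := Layer.layer_normal
  have hx : x ∈ Cfsg.layer X ⊔ (B ⊓ Cfsg.pCore 2 X) := h.layer_sup_eq ▸ mem_top x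
  rw [← SetLike.mem_coe, Subgroup.normal_mul] at hx
  obtain ⟨e, he, z, hz, rfl⟩ := hx
  exact ⟨e, he, z, hz, rfl⟩

theorem pcore_le_center : Cfsg.pCore 2 X ≤ center X := by
  intro r hr
  refine mem_center_iff.2 fun g => ?_
  obtain ⟨e, he, z, hz, rfl⟩ := h.exists_split g
  have h1 : e * r = r * e :=
    mem_centralizer_iff.1 (Layer.fitting_le_centralizer_layer (h.loc.fitting.symm ▸ hr :
      r ∈ Cfsg.fittingSubgroup X)) e he
  have h2 := mem_center_iff.1 (h.inf_pcore_le_center hz) r
  calc e * z * r = e * (z * r) := mul_assoc _ _ _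
    _ = e * (r * z) := by rw [h2]
    _ = (e * r) * z := (mul_assoc _ _ _).symm
    _ = _ := by rw [h1, mul_assoc]

theorem center_pi_mem (c : Enum X) (f : ∀ i, ↥(c.K i)) (hf : ∀ i, f i ∈ center ↥(c.K i)) :
    c.prod f ∈ B :=
  c.prod_mem_of f fun i => h.om_le (h.center_le (c.comp i) (hf i))

theorem pcore_le : Cfsg.pCore 2 X ≤ B := by
  obtain ⟨c⟩ := exists_enum X
  intro r hr
  obtain ⟨e, he, z, hz, rfl⟩ := h.exists_split r
  have heR : e ∈ center X := by
    have := mul_mem (h.pcore_le_center hr) (inv_mem (h.inf_pcore_le_center hz))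
    simpa using this
  obtain ⟨f, rfl⟩ := c.exists_prod he
  exact mul_mem (h.center_pi_mem c f ((c.prod_central_iff f).1
    (mem_centralizer_iff.2 fun y _ => mem_center_iff.1 heR y))) hz.1

theorem invol_mem {t : X} (ht : t ∈ (T : Subgroup X)) (ht2 : t * t = 1) : t ∈ B := by
  classical
  haveI : Fact (Nat.Prime 2) := ⟨Nat.prime_two⟩
  obtain ⟨c⟩ := exists_enum X
  obtain ⟨e, he, z, hz, rfl⟩ := h.exists_split t
  have hzc := h.inf_pcore_le_center hz
  have heT : e ∈ (T : Subgroup X) := by
    have := mul_mem ht (inv_mem (h.closed.1 hz.1))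
    simpa using this
  obtain ⟨f, rfl⟩ := c.exists_prod he
  set e := c.prod f with hedef
  have hee : e * e ∈ center X := by
    have h2 := mem_center_iff.1 hzc e
    have : e * e * (z * z) = 1 := by
      rw [← ht2]
      calc e * e * (z * z) = e * (e * z) * z := by group
        _ = e * (z * e) * z := by rw [h2]
        _ = _ := by group
    rw [eq_inv_of_mul_eq_one_left this]
    exact inv_mem (mul_mem hzc hzc)
  have hsq : ∀ i, f i * f i ∈ center ↥(c.K i) := (c.prod_central_iff (f * f)).1 (by
    rw [map_mul]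
    exact mem_centralizer_iff.2 fun y _ => mem_center_iff.1 hee y)
  refine mul_mem (c.prod_mem_of f fun i => ?_) hz.1
  obtain ⟨hk, P, hTP, hPT, hOm⟩ := h.comp_data (c.comp i)
  set q := QuotientGroup.mk' (Subgroup.center ↥(c.K i)) with hq
  have hq2 : q (f i) * q (f i) = 1 := by
    rw [← map_mul]; exact (QuotientGroup.eq_one_iff _).2 (hsq i)
  refine h.om_le (h.mem_om_of_img (c.comp i) hOm (Subgroup.subset_closure ⟨?_, by
    rw [pow_two]; exact hq2⟩))
  -- a 2-element normalising the Sylow subgroup lies in it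
  have hN : q (f i) ∈ normalizer ((P : Subgroup (↥(c.K i) ⧸ Subgroup.center ↥(c.K i))) :
      Set (↥(c.K i) ⧸ Subgroup.center ↥(c.K i))) := by
    refine Subgroup.mem_normalizer_fintype ?_
    intro y hy
    obtain ⟨x, hx, rfl⟩ := hPT y hy
    rw [SetLike.mem_coe, ← map_inv, ← map_mul, ← map_mul, ← hTP]
    simp only [Subgroup.coe_mul, InvMemClass.coe_inv]
    rw [← c.prod_conj f i x.2]
    exact mul_mem (mul_mem heT hx) (inv_mem heT)
  rcases eq_or_ne (q (f i)) 1 with h1 | h1
  · rw [h1]; exact one_mem _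
  · exact mem_sylow_of_normalizer P (j := 1)
      (by rw [pow_one]; exact orderOf_eq_prime (by rw [pow_two]; exact hq2) h1) hN

theorem eq_sup : B = Cfsg.pCore 2 X ⊔ Cfsg.omegaOne 2 (T : Subgroup X) := by
  haveI : (Cfsg.pCore 2 X).Normal := Goldschmidt53.pCore_normal X
  refine le_antisymm ?_ (sup_le h.pcore_le ?_)
  · obtain ⟨c⟩ := exists_enum X
    intro b hb
    -- `b = (part in the layer) (part in `O₂`)`, the first part in `Ω₁(B)`
    suffices ∀ s : Finset (Fin c.r), ∃ e ∈ Cfsg.omegaOne 2 B, ∃ d ∈ B, b = e * d ∧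
        ∀ i ∈ s, d ∈ centralizer (c.K i : Set X) by
      obtain ⟨e, he, d, hd, rfl, hall⟩ := this Finset.univ
      refine mul_mem (mem_sup_right ?_) (mem_sup_left (h.centralizer_layer_le
        (Walter.Pairs.mem_centralizer_layer fun L hL => ?_)))
      · obtain ⟨heB, he2⟩ := h.mem_om.1 he
        exact PGroups.mem_omegaOne_of_pow (h.closed.1 heB) (by rw [pow_two]; exact he2)
      · obtain ⟨i, rfl⟩ := c.all L hL
        exact hall i (Finset.mem_univ i)
    intro s
    induction s using Finset.induction with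
    | empty => exact ⟨1, one_mem _, b, hb, (one_mul b).symm, by simp⟩
    | @insert i s his ih =>
      obtain ⟨e, he, d, hd, hbd, hall⟩ := ih
      obtain ⟨w, hw, hwd⟩ := h.inner (c.comp i) hd
      refine ⟨e * w, mul_mem he hw, (w : X)⁻¹ * d, mul_mem (inv_mem (h.om_le hw)) hd,
        by rw [hbd]; group, fun j hj => ?_⟩
      rcases Finset.mem_insert.1 hj with rfl | hj
      · exact hwd
      · refine mul_mem (inv_mem (mem_centralizer_iff.2 fun y hy => ?_)) (hall j hj)
        exact (c.commute (fun e' : j = i => his (e' ▸ hj)) hy w.2).eq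
  · refine (Subgroup.closure_le _).2 fun x hx => ?_
    exact h.invol_mem hx.1 (by rw [← pow_two]; exact hx.2)

theorem commutator_eq : commutator X = Cfsg.layer X := by
  haveI : (Cfsg.layer X).Normal := Layer.layer_normal
  refine le_antisymm ?_ ?_
  · rw [_root_.commutator_def, commutator_le]
    intro a _ b _
    obtain ⟨e, he, z, hz, rfl⟩ := h.exists_split a
    obtain ⟨e', he', z', hz', rfl⟩ := h.exists_split b
    refine (QuotientGroup.eq_one_iff _).1 ?_
    show QuotientGroup.mk' (Cfsg.layer X) ⁅e * z, e' * z'⁆ = 1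
    set q := QuotientGroup.mk' (Cfsg.layer X)
    have h1 : q e = 1 := (QuotientGroup.eq_one_iff _).2 he
    have h2 : q e' = 1 := (QuotientGroup.eq_one_iff _).2 he'
    rw [commutatorElement_def, map_mul, map_mul, map_mul, map_inv, map_inv, map_mul, map_mul, h1, h2,
      one_mul, one_mul, ← map_mul, mem_center_iff.1 (h.inf_pcore_le_center hz') z, map_mul]
    group
  · rw [_root_.commutator_def, ← Layer.commutator_layer_self (G := X)]
    exact Subgroup.commutator_mono le_top le_top

theorem sup_commutator : Cfsg.pCore 2 X ⊔ commutator X = ⊤ := by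
  rw [h.commutator_eq, sup_comm, eq_top_iff, ← h.layer_sup_eq]
  exact sup_le_sup le_rfl inf_le_right

end Setting

end Cfsg.Agent.Lib.GoldStructure10
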